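import Mathlib
import Cfsg.Agent.H596.FldFacts
import Cfsg.Agent.H277.ClsPsl
import Cfsg.Agent.S2698

/-!
# S4761: coprime automorphisms of `PSL_n(q)` move the classes of elements of two different orders (helper216)
-/

set_option autoImplicit false

open scoped Matrix

namespace Cfsg.Agent.H216.FldPsl

open Cfsg Cfsg.Agent.H277.Cls Cfsg.Agent.H277.ClsPsl Cfsg.Agent.H277.ExcChev Cfsg.Agent.H596.Fld Matrix
open Cfsg.Agent.ClassicalGeometry.AutPSL.Root Cfsg.Agent.ClassicalGeometry.AutPSL.Auto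
  Cfsg.Agent.ClassicalGeometry.AutPSL.Main
open Cfsg.Agent.H199.PslAut

/-- Fermat: an odd prime `r ≤ n`, `q ≥ 1`, divides `q ^ k * ∏ (q ^ (i + 2) - 1)` (`k ≠ 0`). -/
theorem dvd_prod {r q n k : ℕ} (hr : r.Prime) (hr2 : r ≠ 2) (hq : 0 < q) (hk : k ≠ 0) (hrn : r ≤ n) :
    r ∣ q ^ k * ∏ i ∈ Finset.range (n - 1), (q ^ (i + 2) - 1) := by
  have : Fact r.Prime := ⟨hr⟩
  by_cases h : r ∣ q
  · exact (dvd_pow h hk).mul_right _
  · have h1 : r ∣ q ^ (r - 1) - 1 := by
      rw [dvd_pow_sub_one_iff hq]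
      apply ZMod.pow_card_sub_one_eq_one
      rw [Ne, ZMod.natCast_eq_zero_iff]
      exact h
    have h3 : 3 ≤ r := by have := hr.two_le; omega
    have h2 : r - 3 ∈ Finset.range (n - 1) := by rw [Finset.mem_range]; omega
    have h4 : q ^ (r - 3 + 2) - 1 ∣ ∏ i ∈ Finset.range (n - 1), (q ^ (i + 2) - 1) :=
      Finset.dvd_prod_of_mem (fun i => q ^ (i + 2) - 1) h2
    rw [show r - 3 + 2 = r - 1 by omega] at h4
    exact (h1.trans h4).mul_left _

/-- the order of `PSL_n(q)` is even -/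
theorem even_psl {F : Type} [Field F] [Fintype F] {n : ℕ} (hn : 2 ≤ n) :
    2 ∣ Nat.card (ProjectiveSpecialLinearGroup (Fin n) F) := by
  set q := Fintype.card F with hF
  have hq : 2 ≤ q := Fintype.one_lt_card
  have h := card_psl hF.symm hn
  have hd : q ^ 2 - 1 ∣ ∏ i ∈ Finset.range (n - 1), (q ^ (i + 2) - 1) :=
    Finset.dvd_prod_of_mem (fun i => q ^ (i + 2) - 1) (show 0 ∈ Finset.range (n - 1) by rw [Finset.mem_range]; omega)
  have hnn : n * (n - 1) / 2 ≠ 0 := by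
    have h1 : 2 * 1 ≤ n * (n - 1) := Nat.mul_le_mul hn (by omega)
    omega
  by_cases h2 : 2 ∣ Nat.gcd n (q - 1)
  · by_cases h3 : n = 2
    · subst h3
      obtain ⟨k, hk⟩ := h2.trans (Nat.gcd_dvd_right _ _)
      have h5 : Nat.gcd 2 (q - 1) = 2 := Nat.gcd_eq_left ⟨k, hk⟩
      have h6 : q = 2 * k + 1 := by omega
      have h7 : q ^ 2 - 1 = 4 * (k * (k + 1)) := by
        rw [h6, show (2 * k + 1) ^ 2 = 4 * (k * (k + 1)) + 1 by ring, Nat.add_sub_cancel]
      rw [h5] at h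
      rw [h7] at hd
      obtain ⟨m, hm⟩ := hd
      rw [hm] at h
      refine ⟨q ^ (2 * (2 - 1) / 2) * (k * (k + 1) * m), ?_⟩
      nlinarith
    · exact dvd_of_dvd_gcd hF.symm (by omega) Nat.prime_two h2
  · have h3 : 2 ∣ Nat.gcd n (q - 1) * Nat.card (ProjectiveSpecialLinearGroup (Fin n) F) := by
      rw [h]
      rcases Nat.even_or_odd q with h4 | h4
      · exact (dvd_pow h4.two_dvd hnn).mul_right _
      · have h5 : 2 ∣ q ^ 2 - 1 := by
          have h6 : Odd (q ^ 2) := h4.pow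
          obtain ⟨k, hk⟩ := h6
          exact ⟨k, by omega⟩
        exact (h5.trans hd).mul_left _
    exact (Nat.prime_two.dvd_mul.1 h3).resolve_left h2

theorem two_moved {F : Type} [Field F] [Fintype F] {c : ℕ} [CharP F c] {n : ℕ} (hn : 2 ≤ n)
    (h4 : n = 2 → 4 ≤ Fintype.card F) (hZ : Subgroup.center (ProjectiveSpecialLinearGroup (Fin n) F) = ⊥) :
    TwoMoved (ProjectiveSpecialLinearGroup (Fin n) F) := by
  intro α hr hα
  have h2K : 2 ∣ Nat.card (ProjectiveSpecialLinearGroup (Fin n) F) := even_psl hn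
  have hpp : c.Prime := CharP.char_is_prime F c
  have : Fact c.Prime := ⟨hpp⟩
  have hfin : Finite (ProjectiveSpecialLinearGroup (Fin n) F) := Quotient.finite _
  obtain ⟨f, -, hF⟩ := FiniteField.card F c
  have hr2 : orderOf α ≠ 2 := fun h => hα (h ▸ h2K)
  -- conjugate to a field automorphism
  have hcard : Nat.card (MulAut (ProjectiveSpecialLinearGroup (Fin n) F)) ∣
      2 * Nat.gcd n (c ^ (f : ℕ) - 1) * f * Nat.card (ProjectiveSpecialLinearGroup (Fin n) F) := by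
    rw [S0813.result c f f.pos hF n hn (fun h => hF ▸ h4 h), card_pgl hF hn]
    have h1 : (if n = 2 then 1 else 2) ∣ 2 := by split_ifs <;> simp
    rw [show 2 * Nat.gcd n (c ^ (f : ℕ) - 1) * f * Nat.card (ProjectiveSpecialLinearGroup (Fin n) F) =
      2 * f * (Nat.gcd n (c ^ (f : ℕ) - 1) * Nat.card (ProjectiveSpecialLinearGroup (Fin n) F)) by ring]
    exact mul_dvd_mul_right (mul_dvd_mul_right h1 _) _
  -- prime divisors of the gcd
  have hgcd : ∀ s : ℕ, s.Prime → s ∣ Nat.gcd n (c ^ (f : ℕ) - 1) →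
      s ∣ Nat.card (ProjectiveSpecialLinearGroup (Fin n) F) := by
    intro s hs h
    by_cases hn2 : n = 2
    · have h1 := h.trans (Nat.gcd_dvd_left _ _)
      rw [hn2] at h1
      rwa [(Nat.prime_dvd_prime_iff_eq hs Nat.prime_two).1 h1]
    · exact dvd_of_dvd_gcd hF (by omega) hs h
  have hcop : (orderOf α).Coprime (Nat.card (ProjectiveSpecialLinearGroup (Fin n) F)) :=
    (hr.coprime_iff_not_dvd).2 hα
  obtain ⟨g, σ, hg, hσ, -, hrf⟩ := exists_field hZ (Schreier.ClassPSL.sch hn) hF (phi n F) (phi_injective hn) hcard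
    (fun s hs hsd => by
      rcases (hs.dvd_mul).1 hsd with h | h
      · rwa [(Nat.prime_dvd_prime_iff_eq hs Nat.prime_two).1 h]
      · exact hgcd s hs h) hr hcop
  have hcl : IsFieldAutClassPSL α := ⟨g, σ, hσ, (std_iff _ _).2 hg⟩
  obtain ⟨F₀, _, _, _, hF₀, hj, hq₀, hpow⟩ := exists_subfield (p := c) f.ne_zero hr hrf
  obtain ⟨-, hiso, -⟩ := S2698.result hF f.pos hn h4 α hcl hr rfl F₀ hF₀
  have hfx : Nat.card (fx α) ∣ Nat.card (ProjGenLinGroup (Fin n) F₀) := by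
    refine card_fx_dvd hZ (H := inndiagPSL n F) (fun x => ?_) hiso
    obtain ⟨s, rfl⟩ := pr_surjective x
    rw [← Psi_coe]
    exact Psi_mem _
  -- the primes dividing the order formula
  have key : ∀ s : ℕ, s.Prime → s ∣ (c ^ (f : ℕ)) ^ (n * (n - 1) / 2) *
      ∏ i ∈ Finset.range (n - 1), ((c ^ (f : ℕ)) ^ (i + 2) - 1) →
      s ∣ Nat.card (ProjectiveSpecialLinearGroup (Fin n) F) := by
    intro s hs h
    rw [← card_psl hF hn] at h
    rcases (hs.dvd_mul).1 h with h1 | h1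
    · exact hgcd s hs h1
    · exact h1
  have hqpos : 0 < c ^ (f : ℕ) := pow_pos hpp.pos _
  have hsq : (c ^ (f : ℕ)) ^ 2 - 1 ∣ (c ^ (f : ℕ)) ^ (n * (n - 1) / 2) *
      ∏ i ∈ Finset.range (n - 1), ((c ^ (f : ℕ)) ^ (i + 2) - 1) := by
    have h1 := Finset.dvd_prod_of_mem (fun i => (c ^ (f : ℕ)) ^ (i + 2) - 1)
      (show 0 ∈ Finset.range (n - 1) by rw [Finset.mem_range]; omega)
    exact h1.mul_left _
  have hfac : (c ^ (f : ℕ)) ^ 2 - 1 = (c ^ (f : ℕ) + 1) * (c ^ (f : ℕ) - 1) := by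
    have := Nat.sq_sub_sq (c ^ (f : ℕ)) 1
    simpa using this
  rw [hfac] at hsq
  obtain ⟨s₁, s₂, hs₁, hs₂, hne, hd₁, hd₂, ho₁, ho₂, hn₁, hn₂⟩ := exists_primes hr hr2 hq₀
    (fun h => hα (key _ hr ((h.trans (by rw [hpow]; exact dvd_mul_left _ _)).trans hsq)))
    (fun h => hα (key _ hr ((h.trans (by rw [hpow]; exact dvd_mul_right _ _)).trans hsq)))
  rw [hpow] at hd₁ hd₂
  have hnn : n * (n - 1) / 2 ≠ 0 := by
    have h1 : 2 * 1 ≤ n * (n - 1) := Nat.mul_le_mul hn (by omega)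
    omega
  -- no divisor of the order of the group of fixed points
  have hno : ∀ s : ℕ, s.Prime → (∀ i, s ∣ (c ^ ((f : ℕ) / orderOf α)) ^ i - 1 → orderOf α ∣ i) →
      ¬ s ∣ c ^ ((f : ℕ) / orderOf α) → ¬ s ∣ Nat.card (fx α) := by
    intro s hs ho hns hcon
    have h1 := hcon.trans hfx
    rw [card_pgl hF₀ hn, card_psl hF₀ hn] at h1
    rcases (hs.dvd_mul).1 h1 with h2 | h2
    · exact hns (hs.dvd_of_dvd_pow h2)
    · obtain ⟨i, hi, h3⟩ := (hs.prime.dvd_finsetProd_iff _).1 h2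
      rw [Finset.mem_range] at hi
      have h5 := Nat.le_of_dvd (by omega) (ho _ h3)
      exact hα (key _ hr (dvd_prod hr hr2 hqpos hnn (by omega)))
  exact moved_of_primes hr hα hs₁ hs₂ hne (key _ hs₁ ((hd₁.trans (dvd_mul_left _ _)).trans hsq))
    (key _ hs₂ ((hd₂.trans (dvd_mul_right _ _)).trans hsq)) (hno _ hs₁ ho₁ hn₁)
    (hno _ hs₂ (fun i hi => (dvd_mul_left _ _).trans (ho₂ i hi)) hn₂)

/-- **`PSL_n(q)`** -/
theorem row_psl {r : ℕ} {G : Type*} [Group G] [Finite G] [IsSimpleGroup G] (hc : ∃ a b : G, a * b ≠ b * a)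
    (hG : IsPSLChar r G) : TwoMoved G := by
  obtain ⟨F, _, _, _, n, hn, h4, ⟨e⟩⟩ := hG
  refine TwoMoved.congr e ?_
  have hs : IsSimpleGroup (ProjectiveSpecialLinearGroup (Fin n) F) := e.symm.isSimpleGroup
  have hZ : Subgroup.center (ProjectiveSpecialLinearGroup (Fin n) F) = ⊥ := by
    rcases Subgroup.Normal.eq_bot_or_eq_top (H := Subgroup.center (ProjectiveSpecialLinearGroup (Fin n) F))
      inferInstance with h1 | h1
    · exact h1
    · exfalso
      obtain ⟨a, b, hab⟩ := hc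
      apply hab
      apply e.injective
      rw [map_mul, map_mul]
      have h3 : e a ∈ Subgroup.center (ProjectiveSpecialLinearGroup (Fin n) F) := by rw [h1]; exact Subgroup.mem_top _
      exact (Subgroup.mem_center_iff.1 h3 (e b)).symm
  exact two_moved hn h4 hZ

end Cfsg.Agent.H216.FldPsl
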